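import Mathlib
import Cfsg.Agent.Lib.H4.SylRules
import Cfsg.Agent.Lib.EltOrd.Alt
import Cfsg.Agent.Lib.BG.Api.Core
import Cfsg.Agent.Lib.BG.Api.Basic
import Cfsg.Agent.Lib.Small36.TwoPrimes

/-! Groups with the order and the spectrum of an alternating group. -/

set_option autoImplicit false

namespace H36

open Subgroup

variable {G : Type*} [Group G] [Finite G]

/-- `s` divides the order of no automorphism group of an `r`-subgroup. -/
def Sep (n r s : ℕ) : Prop := ∀ i, 1 ≤ i → r ^ i ∣ n → ¬ s ∣ r ^ i - 1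

theorem exists_orderOf_mul {N : Subgroup G} [N.Normal] {r s : ℕ} (hr : r.Prime) (hs : s.Prime)
    (hrs : r ≠ s) (h1 : r ∣ Nat.card N) (h2 : s ∣ N.index) (h : Sep (Nat.card G) r s) :
    ∃ g : G, orderOf g = r * s := by
  have := Fact.mk hr
  have := Fact.mk hs
  obtain ⟨R⟩ : Nonempty (Sylow r N) := inferInstance
  have hF := Sylow.normalizer_sup_eq_top R
  set R' := (R : Subgroup N).map N.subtype with hR'
  have hc : Nat.card R' = r ^ (Nat.card N).factorization r := by
    rw [hR', card_map_of_injective N.subtype_injective, Sylow.card_eq_multiplicity]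
  have h3 : s ∣ Nat.card (normalizer (R' : Set G)) := by
    rw [← relIndex_top_right, ← hF, relIndex_sup_right] at h2
    exact h2.trans (index_dvd_card _)
  rw [card_norm_eq, hs.dvd_mul] at h3
  rcases h3 with h3 | h3
  · obtain ⟨i, a1, a2, a3⟩ := H4.exists_dvd_pow_sub_one_aut hc hs hrs.symm
      (h3.trans (relIndex_cent_dvd _))
    exact absurd a3 (h i a1 ((pow_dvd_pow r a2).trans (hc ▸ card_subgroup_dvd_card R')))
  · obtain ⟨y, hy⟩ := exists_prime_orderOf_dvd_card' s h3
    obtain ⟨x, hx⟩ := exists_prime_orderOf_dvd_card' (G := R') r (by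
      rw [hc]
      exact dvd_pow_self _ (hr.factorization_pos_of_dvd Nat.card_pos.ne' h1).ne')
    rw [← orderOf_coe] at hx hy
    refine ⟨x * y, ?_⟩
    rw [Commute.orderOf_mul_eq_mul_orderOf_of_coprime (y.2 x x.2), hx, hy]
    rw [hx, hy]
    exact (Nat.coprime_primes hr hs).2 hrs

theorem dvd_of_no_order {N : Subgroup G} [N.Normal] {r s : ℕ} (hr : r.Prime) (hs : s.Prime)
    (hrs : r ≠ s) (h1 : r ∣ Nat.card N) (h2 : s ∣ Nat.card G) (h : Sep (Nat.card G) r s)
    (hno : ∀ g : G, orderOf g ≠ r * s) : s ∣ Nat.card N := by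
  rw [← card_mul_index N, hs.dvd_mul] at h2
  refine h2.resolve_right fun h2 => ?_
  obtain ⟨g, hg⟩ := exists_orderOf_mul hr hs hrs h1 h2 h
  exact hno g hg

theorem not_comm_of_no_order {K : Type*} [Group K] {H : Subgroup G} (f : H →* K)
    (hf : Function.Surjective f) {r s : ℕ} (hr : r.Prime) (hs : s.Prime) (hrs : r ≠ s)
    (h1 : r ∣ Nat.card K) (h2 : s ∣ Nat.card K) (hno : ∀ g : G, orderOf g ≠ r * s) :
    ¬ IsMulCommutative K := by
  intro hK
  have := Fact.mk hr
  have := Fact.mk hs
  have : Finite K := Finite.of_surjective f hf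
  obtain ⟨x, hx⟩ := exists_prime_orderOf_dvd_card' r h1
  obtain ⟨y, hy⟩ := exists_prime_orderOf_dvd_card' s h2
  have h3 : orderOf (x * y) = r * s := by
    rw [Commute.orderOf_mul_eq_mul_orderOf_of_coprime (hK.is_comm.comm x y), hx, hy]
    rw [hx, hy]
    exact (Nat.coprime_primes hr hs).2 hrs
  obtain ⟨g, hg⟩ := hf (x * y)
  have h4 : r * s ∣ orderOf (g : G) := by
    rw [orderOf_coe, ← h3, ← hg]; exact orderOf_map_dvd f g
  exact hno _ (orderOf_pow_orderOf_div (orderOf_pos _).ne' h4)

theorem not_solvable_of_two_primes {r s : ℕ} (hr : r.Prime) (hs : s.Prime) (hrs : r ≠ s)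
    (h1 : r ∣ Nat.card G) (h2 : s ∣ Nat.card G) (h : Sep (Nat.card G) r s)
    (h' : Sep (Nat.card G) s r) (hno : ∀ g : G, orderOf g ≠ r * s) : ¬ Group.IsSolvable G := by
  rintro ⟨n, hn⟩
  have key : ∀ k, r ∣ Nat.card (derivedSeries G k) := by
    intro k
    induction k with
    | zero => simpa using h1
    | succ k ih =>
      set N := derivedSeries G k with hN
      have a1 := dvd_of_no_order hr hs hrs ih h2 h hno
      by_contra hc
      have hc' : ¬ s ∣ Nat.card (derivedSeries G (k + 1)) := fun hd =>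
        hc (dvd_of_no_order hs hr hrs.symm hd h1 h' fun g => by rw [mul_comm]; exact hno g)
      have e : Nat.card (_root_.commutator N) = Nat.card (derivedSeries G (k + 1)) := by
        rw [derivedSeries_succ, ← hN, ← card_map_of_injective N.subtype_injective,
          _root_.commutator, map_commutator, ← MonoidHom.range_eq_map, range_subtype]
      have e2 := card_mul_index (_root_.commutator N)
      rw [e] at e2
      refine not_comm_of_no_order (QuotientGroup.mk' (_root_.commutator N))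
        (QuotientGroup.mk'_surjective _) hr hs hrs ?_ ?_ hno
        (Normal.quotient_commutative_iff_commutator_le.2 le_rfl)
      · rw [← e2, hr.dvd_mul] at ih
        exact ih.resolve_left hc
      · rw [← e2, hs.dvd_mul] at a1
        exact a1.resolve_left hc'
  have := key n
  rw [hn, card_bot, Nat.dvd_one] at this
  exact hr.one_lt.ne' this

open H45 in
/-- If `p` divides the order of `G` exactly once, the chief factor containing `p` is simple. -/
theorem exists_simple_factor {p : ℕ} (hp : p.Prime) (h1 : p ∣ Nat.card G)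
    (h2 : ¬ p ^ 2 ∣ Nat.card G) :
    ∃ (N H : Subgroup G) (_ : N.Normal), H.Normal ∧ N < H ∧ IsSimpleGroup (H ⧸ N.subgroupOf H) ∧
      ¬ p ∣ Nat.card N ∧ p ∣ Nat.card H := by
  have := Fact.mk hp
  set N : Subgroup G := O[{p}ᶜ] ⊤ with hN
  have hNn : N.Normal := by rw [hN, pcore_top]; infer_instance
  have hNp : ¬ p ∣ Nat.card N := (hp.coprime_iff_not_dvd).1 (pcore_coprime p ⊤).symm
  have hmax : ∀ L : Subgroup G, SubnormalIn L ⊤ → ¬ p ∣ Nat.card L → L ≤ N := fun L a b =>
    pcore_max_subnormal (fun q hq hd e => b ((show q = p from e) ▸ hd)) a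
  have hNt : N < ⊤ := lt_top_iff_ne_top.2 fun e => hNp (by rw [e]; simpa using h1)
  obtain ⟨H, ⟨hH1, hH2⟩, hmin⟩ := wellFounded_lt.has_min {H : Subgroup G | H.Normal ∧ N < H}
    ⟨⊤, inferInstance, hNt⟩
  have hHp : p ∣ Nat.card H := by
    by_contra hc
    exact hH2.not_ge (hmax H (NormalIn.subnormalIn ⟨le_top, by rw [normalizer_eq_top]⟩) hc)
  refine ⟨N, H, hNn, hH1, hH2, ?_, hNp, hHp⟩
  have : Nontrivial (H ⧸ N.subgroupOf H) := by
    rw [QuotientGroup.nontrivial_iff, Ne, subgroupOf_eq_top]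
    exact hH2.not_ge
  refine ⟨fun K hK => ?_⟩
  let L := K.comap (QuotientGroup.mk' (N.subgroupOf H))
  have hK' : K = L.map (QuotientGroup.mk' (N.subgroupOf H)) :=
    (map_comap_eq_self_of_surjective (QuotientGroup.mk'_surjective _) K).symm
  by_cases hL : p ∣ Nat.card L
  · right
    have hi : ¬ p ∣ L.index := fun hd => h2 (by
      rw [sq]
      exact (Nat.mul_dvd_mul hL hd).trans ((card_mul_index L).dvd.trans (card_subgroup_dvd_card H)))
    let U : Subgroup G := closure {x | x ∈ H ∧ orderOf x = p}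
    have hUn : U.Normal := by
      refine ⟨fun x hx g => ?_⟩
      have : U.map (MulAut.conj g).toMonoidHom ≤ U := by
        rw [MonoidHom.map_closure]
        refine closure_mono ?_
        rintro _ ⟨y, hy, rfl⟩
        exact ⟨hH1.conj_mem y hy.1 g, (MulEquiv.orderOf_eq (MulAut.conj g) y).trans hy.2⟩
      exact this ⟨x, hx, rfl⟩
    have hUL : U ≤ L.map H.subtype := by
      rw [closure_le]
      rintro x ⟨hx, ho⟩
      refine ⟨⟨x, hx⟩, ?_, rfl⟩
      have a1 : orderOf (QuotientGroup.mk' L ⟨x, hx⟩) ∣ p :=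
        (orderOf_map_dvd _ _).trans (by rw [← orderOf_coe]; exact ho.dvd)
      rcases (Nat.dvd_prime hp).1 a1 with a | a
      · exact (QuotientGroup.eq_one_iff _).1 (orderOf_eq_one_iff.1 a)
      · exact absurd (a ▸ orderOf_dvd_natCard _) hi
    have hNL : N ≤ L.map H.subtype := fun x hx => ⟨⟨x, hH2.le hx⟩, by
      change QuotientGroup.mk' _ _ ∈ K
      rw [QuotientGroup.mk'_apply, (QuotientGroup.eq_one_iff _).2 (by exact hx)]
      exact one_mem K, rfl⟩
    obtain ⟨x, hx⟩ := exists_prime_orderOf_dvd_card' p hHp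
    rw [← orderOf_coe] at hx
    have hlt : N < N ⊔ U := left_lt_sup.2 fun hle =>
      hNp (hx ▸ orderOf_dvd_natCard _ (hle (subset_closure ⟨x.2, hx⟩)))
    have e : N ⊔ U = H := by
      by_contra hne
      exact hmin _ ⟨inferInstance, hlt⟩ (lt_of_le_of_ne ((sup_le hNL hUL).trans (map_subtype_le L)) hne)
    have : L = ⊤ := by
      rw [eq_top_iff]
      intro y _
      obtain ⟨z, hz, e'⟩ := sup_le hNL hUL (e.ge y.2)
      exact (Subtype.ext e' : z = y) ▸ hz
    rw [hK', this, map_top_of_surjective _ (QuotientGroup.mk'_surjective _)]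
  · left
    have hn : L.map H.subtype ⊴ H := ⟨map_subtype_le L, by
      have : L.Normal := inferInstance
      exact (normal_subgroupOf_iff_le_normalizer (map_subtype_le L)).1
        (by rwa [subgroupOf, comap_map_eq_self_of_injective H.subtype_injective])⟩
    have := hmax (L.map H.subtype) ((NormalIn.subnormalIn hn).trans
      (NormalIn.subnormalIn ⟨le_top, by rw [normalizer_eq_top]⟩))
      (by rwa [card_map_of_injective H.subtype_injective])
    rw [hK', Subgroup.map_eq_bot_iff, QuotientGroup.ker_mk']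
    exact fun y hy => this ⟨y, hy, rfl⟩

theorem alt_no_order {n r s : ℕ} (hr : r.Prime) (hs : s.Prime) (hrs : r ≠ s) (h : n < r + s)
    (g : alternatingGroup (Fin n)) : orderOf g ≠ r * s := by
  intro e
  obtain ⟨c, h1, h2, -, h3⟩ := (H64.mem_range_orderOf_alt_iff n _).1 ⟨g, e⟩
  obtain ⟨a, ha, ha'⟩ := H64.exists_mem_of_prime_dvd_lcm hr c (h3 ▸ dvd_mul_right _ _)
  obtain ⟨b, hb, hb'⟩ := H64.exists_mem_of_prime_dvd_lcm hs c (h3 ▸ dvd_mul_left _ _)
  have a0 := h2 a ha
  have b0 := h2 b hb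
  by_cases hab : a = b
  · subst hab
    have := Nat.le_of_dvd (by omega) (((Nat.coprime_primes hr hs).2 hrs).mul_dvd_of_dvd_of_dvd ha' hb')
    have := Multiset.single_le_sum (fun _ _ => Nat.zero_le _) a ha
    have := Nat.add_le_mul hr.two_le hs.two_le
    omega
  · have := H64.add_le_sum_of_mem_of_ne ha hb hab
    have := Nat.le_of_dvd (by omega) ha'
    have := Nat.le_of_dvd (by omega) hb'
    omega

theorem two_mul_card_alt {n : ℕ} (hn : 2 ≤ n) :
    2 * Nat.card (alternatingGroup (Fin n)) = n.factorial := by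
  have : Nontrivial (Fin n) := Fin.nontrivial_iff_two_le.2 hn
  rw [two_mul_nat_card_alternatingGroup, Nat.card_perm, Nat.card_eq_fintype_card, Fintype.card_fin]

theorem dvd_card_alt {n p : ℕ} (hp : p.Prime) (h2 : 2 < p) (h : p ≤ n) :
    p ∣ Nat.card (alternatingGroup (Fin n)) := by
  have := (hp.dvd_factorial).2 h
  rw [← two_mul_card_alt (by omega), hp.dvd_mul] at this
  exact this.resolve_left fun h => by have := Nat.le_of_dvd two_pos h; omega

theorem not_sq_dvd_card_alt {n p : ℕ} (hp : p.Prime) (hn : 2 ≤ n) (h : n < 2 * p) :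
    ¬ p ^ 2 ∣ Nat.card (alternatingGroup (Fin n)) := by
  intro hd
  have h1 : p ^ 2 ∣ (2 * p - 1).factorial := (hd.trans (Dvd.intro_left _ (two_mul_card_alt hn))).trans
    (Nat.factorial_dvd_factorial (by omega))
  have h2 := hp.two_le
  rw [show 2 * p - 1 = p + (p - 1) by omega, ← Nat.factorial_mul_ascFactorial,
    show p = p - 1 + 1 by omega, Nat.factorial_succ, Nat.sub_add_cancel hp.one_le, sq, mul_assoc,
    Nat.mul_dvd_mul_iff_left hp.pos, hp.dvd_mul, hp.dvd_factorial] at h1
  rcases h1 with h1 | h1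
  · omega
  · rw [Nat.ascFactorial_eq_prod_range, (Nat.prime_iff.1 hp).dvd_finsetProd_iff] at h1
    obtain ⟨i, hi, h1⟩ := h1
    rw [Finset.mem_range] at hi
    rw [add_assoc, Nat.dvd_add_right dvd_rfl] at h1
    have := Nat.le_of_dvd (by omega) h1
    omega

theorem sep_of_big {m n p q : ℕ} (hp : p.Prime) (hq : q.Prime) (h1 : ¬ p ^ 2 ∣ m) (hn : 4 ≤ n)
    (h2 : n < 2 * p) (h3 : n < 2 * q) (h4 : p ≤ n) : Sep m p q := by
  intro i hi hd hq'
  have : i = 1 := by
    by_contra hc
    exact h1 ((pow_dvd_pow p (by omega)).trans hd)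
  subst this
  rw [pow_one] at hq'
  obtain ⟨k, hk⟩ := hq'
  have := hp.two_le
  rcases k with _ | _ | k
  · omega
  · rcases hp.eq_two_or_odd with h | h <;> rcases hq.eq_two_or_odd with h' | h' <;> omega
  · have : q * (k + 1 + 1) = q * k + 2 * q := by ring
    omega

theorem exists_two_big {n : ℕ} (hn : 5 ≤ n) (h6 : n ≠ 6) (h10 : n ≠ 10) :
    ∃ p q : ℕ, p.Prime ∧ q.Prime ∧ n < 2 * p ∧ p < q ∧ q ≤ n := by
  by_cases h : 12 ≤ n
  · obtain ⟨p, q, hp, hq, h1, h2, h3⟩ := exists_two_primes (m := n / 2) (by omega)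
    exact ⟨p, q, hp, hq, by omega, h2, by omega⟩
  · by_cases h5 : n = 5
    · exact ⟨3, 5, by norm_num, by norm_num, by omega, by omega, by omega⟩
    by_cases h11 : n = 11
    · exact ⟨7, 11, by norm_num, by norm_num, by omega, by omega, by omega⟩
    exact ⟨5, 7, by norm_num, by norm_num, by omega, by omega, by omega⟩

end H36
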