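import Mathlib
import Cfsg.Agent.Lib.Spec.Basic

/-! The Frobenius groups `F_p(ζ) ⋊ ⟨ζ⟩`. -/

set_option autoImplicit false

namespace H36

open Subgroup SemidirectProduct H74.Spec

/-- The properties of the minimal Frobenius group with kernel a `p`-group and cyclic complement of
order `m`. -/
structure IsFrobMin (p m : ℕ) (H : Type*) [Group H] : Prop where
  solv : Group.IsSolvable H
  spec : Set.range (orderOf : H → ℕ) = {d | d ∣ p ∨ d ∣ m}
  gen : 1 < m → ∀ S : Subgroup H, ∀ x ∈ S, ∀ y ∈ S, orderOf x = p → orderOf y = m → S = ⊤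
  norm : ∀ N : Subgroup H, N.Normal → N ≠ ⊥ → ∀ x, orderOf x = p → x ∈ N
  pow : ∀ x : H, (x ^ m) ^ p = 1
  comm : ∀ x y : H, orderOf x = p → orderOf y = p → Commute x y
  ncomm : 1 < m → ∃ x y : H, orderOf x = m ∧ orderOf y = m ∧ ¬ Commute x y

/-- The scalar action of the roots of unity. -/
noncomputable abbrev scalRep (m : ℕ) (K : Type*) [Field K] : Representation K (rootsOfUnity m K) K :=
  Representation.ofDistribMulAction K (rootsOfUnity m K) K

/-- The affine group with linear part the roots of unity. -/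
abbrev AffRoot (m : ℕ) (K : Type*) [Field K] :=
  Multiplicative K ⋊[repAut (scalRep m K)] rootsOfUnity m K

theorem conj_inl {N G : Type*} [CommGroup N] [Group G] {φ : G →* MulAut N} (z : N ⋊[φ] G) (v : N) :
    z * inl v * z⁻¹ = inl (φ z.right v) := by
  ext <;> simp [mul_comm z.left]

theorem isFrobMin_affRoot {p m : ℕ} [hp' : Fact p.Prime] [NeZero m] (hm : ¬ p ∣ m) (K : Type*)
    [Field K] [Finite K] [Algebra (ZMod p) K] [IsCyclotomicExtension {m} (ZMod p) K] :
    IsFrobMin p m (AffRoot m K) := by
  have hp := hp'.out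
  have : CharP K p := charP_of_injective_algebraMap (algebraMap (ZMod p) K).injective p
  set U := rootsOfUnity m K with hUd
  set ρ := scalRep m K with hρd
  have hρ : ∀ (g : U) (v : K), ρ g v = ((g : Kˣ) : K) * v := fun _ _ => rfl
  obtain ⟨ζ, hζ⟩ := IsCyclotomicExtension.exists_isPrimitiveRoot (S := {m}) (ZMod p) K rfl
    (NeZero.ne m)
  have hU : Nat.card U = m := hζ.card_rootsOfUnity
  have hUo : ∀ g : U, orderOf g ∣ m := fun g => (orderOf_dvd_natCard g).trans hU.dvd
  have : Finite (AffRoot m K) := Finite.of_equiv _ SemidirectProduct.equivProd.symm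
  have hfpf : ∀ g : U, g ≠ 1 → ∀ v, ρ g v = v → v = 0 := fun g hg v h => by
    rw [hρ] at h
    by_contra hv
    exact hg (Subtype.ext (Units.ext (mul_right_cancel₀ hv (h.trans (one_mul v).symm))))
  have ho1 : ∀ x : AffRoot m K, x.right ≠ 1 → orderOf x = orderOf x.right := fun x hx => by
    rw [orderOf_rep, norm_eq_zero_of_fpf ρ _ (hfpf _ hx), addOrderOf_zero, mul_one]
  have ho2 : ∀ x : AffRoot m K, x.right = 1 → x ≠ 1 → orderOf x = p := fun x hx h1 => by
    rw [orderOf_rep, norm_of_fixed ρ _ (by rw [hx, map_one]; rfl), hx, orderOf_one, one_mul,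
      one_smul]
    refine addOrderOf_eq_prime (by rw [nsmul_eq_mul, CharP.cast_eq_zero, zero_mul]) fun h => h1 ?_
    exact SemidirectProduct.ext (by simpa using h) hx
  have hr : ∀ x : AffRoot m K, orderOf x = p → x.right = 1 := fun x hx => by
    by_contra h
    exact hm (hx ▸ ho1 x h ▸ hUo _)
  have hinv : ∀ S : Subgroup (AffRoot m K), (∀ u : U, ∀ v, inl v ∈ S → inl (repAut ρ u v) ∈ S) →
      ∀ v, v ≠ 1 → inl v ∈ S → ∀ w, inl w ∈ S := by
    intro S hS v hv h1 w
    have key : ∀ c : K, ∀ v, inl v ∈ S → inl (Multiplicative.ofAdd (c * v.toAdd)) ∈ S := by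
      intro c
      induction IsCyclotomicExtension.adjoin_roots (S := {m}) (A := ZMod p) c
        using Algebra.adjoin_induction with
      | mem b hb =>
        obtain ⟨n, rfl, -, hb⟩ := hb
        exact hS (rootsOfUnity.mkOfPowEq b hb)
      | algebraMap r =>
        intro v hv
        obtain ⟨r, rfl⟩ := ZMod.natCast_zmod_surjective r
        rw [map_natCast, ← nsmul_eq_mul, ofAdd_nsmul, map_pow]
        exact pow_mem hv r
      | add a b _ _ ha hb =>
        intro v hv
        rw [add_mul, ofAdd_add, map_mul]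
        exact mul_mem (ha v hv) (hb v hv)
      | mul a b _ _ ha hb =>
        intro v hv
        rw [mul_assoc]
        exact ha _ (hb v hv)
    have := key (w.toAdd / v.toAdd) v h1
    rwa [div_mul_cancel₀ _ (by simpa using hv)] at this
  obtain ⟨u, hu⟩ := IsCyclic.exists_ofOrder_eq_natCard (α := U)
  rw [hU] at hu
  refine ⟨?_, ?_, ?_, ?_, ?_, ?_, ?_⟩
  · exact Group.isSolvable_of_ker_le_range inl rightHom range_inl_eq_ker_rightHom.ge
  · ext d
    constructor
    · rintro ⟨x, rfl⟩
      by_cases h : x.right = 1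
      · by_cases h1 : x = 1
        · left; simp [h1]
        · exact Or.inl (ho2 x h h1).dvd
      · exact Or.inr (ho1 x h ▸ hUo _)
    · rintro (h | h)
      · refine mem_range_orderOf_of_dvd ⟨inl (Multiplicative.ofAdd 1), ho2 _ rfl fun e => ?_⟩ h
        simpa using congrArg SemidirectProduct.left e
      · exact mem_range_orderOf_of_dvd ⟨inr u, (orderOf_injective inr inr_injective u).trans hu⟩ h
  · intro h1 S x hx y hy ox oy
    have hy1 : y.right ≠ 1 := fun h => by
      by_cases h2 : y = 1
      · rw [h2, orderOf_one] at oy; omega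
      · exact hm ((ho2 y h h2).symm.trans oy).dvd
    have hz : zpowers y.right = ⊤ := by
      rw [← card_eq_iff_eq_top, Nat.card_zpowers, ← ho1 y hy1, oy, hU]
    have hs : ∀ g : U, ∃ z ∈ S, z.right = g := fun g => by
      obtain ⟨k, hk⟩ := hz.ge (mem_top g)
      exact ⟨y ^ k, zpow_mem hy k, (map_zpow rightHom y k).trans hk⟩
    have hall := hinv S (fun g v hv => by
      obtain ⟨z, hz, rfl⟩ := hs g
      have := mul_mem (mul_mem hz hv) (inv_mem hz)
      rwa [conj_inl] at this) x.left (fun h => by
        have : x = 1 := SemidirectProduct.ext h (hr x ox)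
        rw [this, orderOf_one] at ox
        exact hp.one_lt.ne ox) (by
        convert hx using 1
        exact SemidirectProduct.ext rfl (hr x ox).symm)
    rw [eq_top_iff]
    intro g _
    obtain ⟨z, hz, e⟩ := hs g.right
    have : g = inl (g * z⁻¹).left * z := by
      ext <;> simp [← e]
    rw [this]
    exact mul_mem (hall _) hz
  · intro N hN hb x ox
    obtain ⟨n, hn, h1⟩ := (bot_or_exists_ne_one N).resolve_left hb
    obtain ⟨v, hv, hv1⟩ : ∃ v, v ≠ 1 ∧ inl v ∈ N := by
      by_cases h : n.right = 1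
      · exact ⟨n.left, fun e => h1 (SemidirectProduct.ext e h), by
          convert hn using 1
          exact SemidirectProduct.ext rfl h.symm⟩
      · let a : Multiplicative K := Multiplicative.ofAdd 1
        refine ⟨a * (repAut ρ n.right a)⁻¹, fun e => one_ne_zero (hfpf _ h 1 ?_), ?_⟩
        · exact (congrArg Multiplicative.toAdd (mul_inv_eq_one.1 e)).symm
        · have := mul_mem (hN.conj_mem n hn (inl a)) (inv_mem hn)
          rwa [mul_assoc, mul_assoc, ← mul_assoc n, ← map_inv, conj_inl, ← map_mul, map_inv] at this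
    have := hinv N (fun g v hv => by
      rw [inl_aut, map_inv]; exact hN.conj_mem _ hv _) v hv hv1 x.left
    convert this using 1
    exact SemidirectProduct.ext rfl (hr x ox)
  · intro x
    have h : (x ^ m).right = 1 := (map_pow rightHom x m).trans (orderOf_dvd_iff_pow_eq_one.1 (hUo _))
    by_cases h1 : x ^ m = 1
    · rw [h1, one_pow]
    · rw [← ho2 _ h h1, pow_orderOf_eq_one]
  · intro x y ox oy
    ext <;> simp [hr x ox, hr y oy, mul_comm]
  · intro h1
    have hu1 : u ≠ 1 := fun h => by rw [h, orderOf_one] at hu; omega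
    refine ⟨inr u, ⟨Multiplicative.ofAdd 1, u⟩, (ho1 _ hu1).trans hu, (ho1 _ hu1).trans hu,
      fun h => one_ne_zero (hfpf u hu1 1 ?_)⟩
    have := congrArg (fun z => z.left.toAdd) h.eq
    change u • (1 : K) = 1
    simpa [repAut_apply] using this

theorem exists_frobMin {p m : ℕ} (hp : p.Prime) (hm0 : m ≠ 0) (hm : ¬ p ∣ m) :
    ∃ (H : Type) (_ : Group H) (_ : Fintype H), IsFrobMin p m H := by
  have := Fact.mk hp
  have : NeZero m := ⟨hm0⟩
  have : NeZero (m : ZMod p) := ⟨fun h => hm ((ZMod.natCast_eq_zero_iff m p).1 h)⟩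
  let K := CyclotomicField m (ZMod p)
  have : FiniteDimensional (ZMod p) K := IsCyclotomicExtension.finiteDimensional {m} (ZMod p) K
  have : Finite K := Module.finite_of_finite (ZMod p)
  have : Finite (AffRoot m K) := Finite.of_equiv _ SemidirectProduct.equivProd.symm
  exact ⟨AffRoot m K, inferInstance, Fintype.ofFinite _, isFrobMin_affRoot hm K⟩

end H36
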