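import Mathlib
import Cfsg.Agent.Lib.FGS.SameOrd
import Cfsg.Agent.Lib.Ord.Gk

/-! Numbers of elements of the same order: tools, and the values in small alternating groups. -/

set_option autoImplicit false
set_option linter.style.haveILetI false
set_option linter.unusedSectionVars false

open H79 Equiv

namespace H36.Nse

/-- `S` is the set of the numbers of elements of the same order -/
def IsNse (G : Type*) [Group G] (S : List ℕ) : Prop :=
  (∀ m, so G m = 0 ∨ so G m ∈ S) ∧ ∀ s ∈ S, ∃ m, so G m = s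

variable {G : Type*} [Group G] [Finite G]

theorem IsNse.transfer {H : Type*} [Group H] [Finite H] {S : List ℕ} (hS : 0 ∉ S) (a : IsNse H S)
    (h : ((fun m : ℕ => Nat.card {g : G // orderOf g = m}) '' Set.range (orderOf : G → ℕ)) =
      ((fun m : ℕ => Nat.card {g : H // orderOf g = m}) '' Set.range (orderOf : H → ℕ))) :
    IsNse G S := by
  refine ⟨fun m => ?_, fun s hs => ?_⟩
  · by_cases h0 : so G m = 0
    · exact Or.inl h0
    obtain ⟨g, hg⟩ := so_ne_zero_iff.mp h0
    obtain ⟨k, ⟨x, hx⟩, hk⟩ := h.le ⟨m, ⟨g, hg⟩, rfl⟩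
    have e : so H k = so G m := hk
    rcases a.1 k with h1 | h1
    · exact absurd (e ▸ h1) h0
    · exact Or.inr (e ▸ h1)
  · obtain ⟨m, hm⟩ := a.2 s hs
    obtain ⟨g, hg⟩ := so_ne_zero_iff.mp (show so H m ≠ 0 from fun e => hS (by rwa [← e, hm]))
    obtain ⟨k, -, hk⟩ := h.ge ⟨m, ⟨g, hg⟩, rfl⟩
    exact ⟨k, hk.trans hm⟩

theorem frob {n : ℕ} (hn : n ∣ Nat.card G) : n ∣ ∑ m ∈ n.divisors, so G m :=
  dvd_sum_card_orderOf hn

theorem sum_eq_of_dvd {n : ℕ} (h0 : n ≠ 0) (hn : Nat.card G ∣ n) :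
    ∑ m ∈ n.divisors, so G m = Nat.card G :=
  sum_so_eq _ fun g => Nat.mem_divisors.mpr ⟨(orderOf_dvd_natCard g).trans hn, h0⟩

theorem so_zero_of_dvd {m n : ℕ} (h : so G m = 0) (hmn : m ∣ n) : so G n = 0 := by
  by_contra h'
  exact so_ne_zero_of_dvd h' hmn h

theorem IsNse.zero {S : List ℕ} (a : IsNse G S) (m : ℕ) (h : ∀ s ∈ S, ¬ m.totient ∣ s) :
    so G m = 0 := (a.1 m).resolve_right fun hm => h _ hm (totient_dvd_so m)

theorem IsNse.val {S : List ℕ} (a : IsNse G S) (m k : ℕ) (hk : m.totient = k) :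
    (so G m = 0 ∨ so G m ∈ S) ∧ k ∣ so G m := ⟨a.1 m, hk ▸ totient_dvd_so m⟩

/-- cyclic Sylow subgroups are counted by their generators -/
theorem cyc {p a : ℕ} [hp : Fact p.Prime] (h1 : p ^ a ∣ Nat.card G)
    (h2 : ¬ p ^ (a + 1) ∣ Nat.card G) (h : so G (p ^ a) ≠ 0) :
    so G (p ^ a) = (p ^ a).totient * Nat.card (Sylow p G) := by
  have hf : (Nat.card G).factorization p = a :=
    le_antisymm (Nat.le_of_lt_succ (not_le.mp fun e =>
      h2 ((hp.out.pow_dvd_iff_le_factorization Nat.card_pos.ne').mpr e)))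
      ((hp.out.pow_dvd_iff_le_factorization Nat.card_pos.ne').mp h1)
  obtain ⟨g, hg⟩ := so_ne_zero_iff.mp h
  let P0 : Sylow p G := Sylow.ofCard (Subgroup.zpowers g) (by rw [Nat.card_zpowers, hg, hf])
  haveI : IsCyclic (P0 : Subgroup G) := inferInstanceAs (IsCyclic (Subgroup.zpowers g))
  rw [so_eq_ncard, ncard_orderOf_eq_totient_mul]
  congr 1
  rw [← Set.ncard_univ, ← Set.ncard_image_of_injective _
    (show Function.Injective (fun P : Sylow p G => (P : Subgroup G)) from fun _ _ e => Sylow.ext e)]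
  congr 1
  ext K
  constructor
  · rintro ⟨h3, -⟩
    exact ⟨Sylow.ofCard K (by rw [h3, hf]), trivial, rfl⟩
  · rintro ⟨P, -, rfl⟩
    exact ⟨by rw [P.card_eq_multiplicity, hf], isCyclic_of_surjective _ (P0.equiv P).surjective⟩

theorem cyc' {p a k : ℕ} (hp : p.Prime) (h1 : p ^ a ∣ Nat.card G)
    (h2 : ¬ p ^ (a + 1) ∣ Nat.card G) (h : so G (p ^ a) = (p ^ a).totient * k) (hk : k ≠ 0) :
    k ∣ Nat.card G ∧ k % p = 1 % p := by
  haveI := Fact.mk hp
  have h0 : (p ^ a).totient ≠ 0 := (Nat.totient_pos.mpr (pow_pos hp.pos _)).ne'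
  have := cyc h1 h2 (by rw [h]; exact mul_ne_zero h0 hk)
  rw [h] at this
  obtain rfl := Nat.eq_of_mul_eq_mul_left (Nat.pos_of_ne_zero h0) this
  obtain ⟨P⟩ : Nonempty (Sylow p G) := inferInstance
  exact ⟨P.card_dvd_index.trans (Subgroup.index_dvd_card _), card_sylow_modEq_one p G⟩

/-- a divisor bound for the order from prime power bounds -/
theorem card_dvd_of_bounds {a b c : ℕ} (h : ∀ p : ℕ, p.Prime → p ∣ Nat.card G → p = 2 ∨ p = 3 ∨ p = 5)
    (h2 : ¬ 2 ^ (a + 1) ∣ Nat.card G) (h3 : ¬ 3 ^ (b + 1) ∣ Nat.card G)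
    (h5 : ¬ 5 ^ (c + 1) ∣ Nat.card G) : Nat.card G ∣ 2 ^ a * 3 ^ b * 5 ^ c := by
  refine (Nat.dvd_iff_prime_pow_dvd_dvd _ _).mpr fun p k hp hk => ?_
  rcases k with _ | k
  · simp
  rcases h p hp ((dvd_pow_self p k.succ_ne_zero).trans hk) with rfl | rfl | rfl
  · exact ((pow_dvd_pow 2 (by by_contra e; exact h2 ((pow_dvd_pow 2 (by omega)).trans hk))).mul_right
      _).mul_right _
  · exact ((pow_dvd_pow 3 (by by_contra e; exact h3 ((pow_dvd_pow 3 (by omega)).trans hk))).mul_left
      _).mul_right _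
  · exact (pow_dvd_pow 5 (by by_contra e; exact h5 ((pow_dvd_pow 5 (by omega)).trans hk))).mul_left _

/-- simplicity from the count of elements of order five -/
theorem simple_five {m : ℕ} (hG : Nat.card G = 5 * m) (hm5 : ¬ 5 ∣ m) (h5 : so G 5 = 2 * m)
    (h10 : so G 10 = 0) (hm2 : m ≠ 2)
    (hm : ∀ r b, r.Prime → 0 < b → r ^ b ∣ m → ¬ 5 ∣ r ^ b - 1) : IsSimpleGroup G := by
  haveI : Fact (Nat.Prime 5) := ⟨by norm_num⟩
  have hm0 : m ≠ 0 := fun e => hm5 (e ▸ dvd_zero _)
  have h1 : 5 ^ 1 ∣ Nat.card G := hG ▸ dvd_mul_right _ _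
  have h2 : ¬ 5 ^ (1 + 1) ∣ Nat.card G := by rw [hG]; omega
  have h3 := cyc h1 h2 (by rw [pow_one, h5]; omega)
  rw [pow_one, h5, show Nat.totient 5 = 4 by decide] at h3
  obtain ⟨P⟩ : Nonempty (Sylow 5 G) := inferInstance
  have hP : Nat.card (P : Subgroup G) = 5 := by
    obtain ⟨k, hk⟩ := P.isPGroup'.exists_card_eq
    have a1 := P.dvd_card_of_dvd_card (by simpa using h1)
    have a2 := (P : Subgroup G).card_subgroup_dvd_card
    rw [hk] at a1 a2 ⊢
    rcases k with _ | _ | k
    · omega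
    · rfl
    · exact absurd ((pow_dvd_pow 5 (by omega)).trans a2) h2
  have hN : Nat.card (Subgroup.normalizer ((P : Subgroup G) : Set G)) = 5 * 2 := by
    have := (Subgroup.normalizer ((P : Subgroup G) : Set G)).card_mul_index
    have e : (Subgroup.normalizer ((P : Subgroup G) : Set G)).index = _ :=
      P.card_eq_index_normalizer.symm
    rw [e, hG] at this
    have h4 : m = 2 * Nat.card (Sylow 5 G) := by omega
    refine Nat.eq_of_mul_eq_mul_right (Nat.card_pos (α := Sylow 5 G)) ?_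
    rw [this]; omega
  haveI : IsCyclic (P : Subgroup G) := isCyclic_of_prime_card hP
  have hC : Nat.card (Subgroup.centralizer ((P : Subgroup G) : Set G)) = 5 := by
    have a1 : Nat.card (Subgroup.centralizer ((P : Subgroup G) : Set G)) ∣ 5 * 2 :=
      hN ▸ Subgroup.card_dvd_of_le (Subgroup.centralizer_le_normalizer _)
    have a2 : 5 ∣ Nat.card (Subgroup.centralizer ((P : Subgroup G) : Set G)) :=
      hP.symm.dvd.trans (Subgroup.card_dvd_of_le (P : Subgroup G).le_centralizer)
    have a3 : ¬ 2 ∣ Nat.card (Subgroup.centralizer ((P : Subgroup G) : Set G)) := fun e => by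
      obtain ⟨x, hx⟩ := exists_prime_orderOf_dvd_card' 2 e
      obtain ⟨y, hy⟩ := exists_prime_orderOf_dvd_card' (G := (P : Subgroup G)) 5 hP.symm.dvd
      have hc : Commute (x : G) y := (x.2 y y.2).symm
      have := hc.orderOf_mul_eq_mul_orderOf_of_coprime (by
        rw [Subgroup.orderOf_coe, Subgroup.orderOf_coe, hx, hy]; decide)
      rw [Subgroup.orderOf_coe, Subgroup.orderOf_coe, hx, hy] at this
      exact so_ne_zero_iff.mpr ⟨_, this⟩ h10
    have := Nat.le_of_dvd (by norm_num) a1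
    have := Nat.card_pos (α := Subgroup.centralizer ((P : Subgroup G) : Set G))
    omega
  exact H17.Ord.simple_of_selfcent Nat.prime_two hG P hP hC hN hm2 hm

theorem sum_alt (n k : ℕ) (hk : k ≠ 0) : ∑ m ∈ k.divisors, so (alternatingGroup (Fin n)) m =
    (Finset.univ.filter fun g : Perm (Fin n) => g ^ k = 1 ∧ Perm.sign g = 1).card := by
  simp only [so_def]
  rw [← ncard_pow_eq_one_eq_sum hk, ← Set.ncard_coe_finset,
    ← Set.ncard_image_of_injective _ Subtype.val_injective]
  congr 1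
  ext g
  simp only [Set.mem_image, Set.mem_ofPred_eq, Finset.coe_filter, Finset.mem_univ, true_and]
  constructor
  · rintro ⟨x, hx, rfl⟩
    exact ⟨by exact_mod_cast congrArg Subtype.val hx, x.2⟩
  · rintro ⟨h1, h2⟩
    exact ⟨⟨g, h2⟩, Subtype.ext h1, rfl⟩

theorem isNse_of_sum (l : List ℕ) (hl : l.Nodup) (h : (l.map (so G)).sum = Nat.card G) :
    IsNse G (l.map (so G)) := by
  refine ⟨fun m => ?_, fun s hs => ?_⟩
  · by_cases hm : m ∈ l
    · exact Or.inr (List.mem_map_of_mem hm)
    · have := sum_so_le (G := G) (insert m l.toFinset)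
      rw [Finset.sum_insert (by simpa using hm), List.sum_toFinset _ hl, h] at this
      left; omega
  · obtain ⟨m, -, hm⟩ := List.mem_map.mp hs
    exact ⟨m, hm⟩

theorem card_alt (n : ℕ) (hn : 2 ≤ n) : 2 * Nat.card (alternatingGroup (Fin n)) = n.factorial := by
  haveI : Nontrivial (Fin n) := Fin.nontrivial_iff_two_le.mpr hn
  rw [Nat.card_eq_fintype_card, two_mul_card_alternatingGroup, Fintype.card_perm, Fintype.card_fin]

theorem nse4 : IsNse (alternatingGroup (Fin 4)) [1, 3, 8] := by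
  have h2 := sum_alt 4 2 (by norm_num)
  have h3 := sum_alt 4 3 (by norm_num)
  rw [show (Finset.univ.filter fun g : Perm (Fin 4) => g ^ 2 = 1 ∧ Perm.sign g = 1).card = 4 by
    decide +kernel, show Nat.divisors 2 = {1, 2} by decide] at h2
  rw [show (Finset.univ.filter fun g : Perm (Fin 4) => g ^ 3 = 1 ∧ Perm.sign g = 1).card = 9 by
    decide +kernel, show Nat.divisors 3 = {1, 3} by decide] at h3
  simp only [Finset.mem_singleton, Finset.sum_insert, Finset.sum_singleton, so_one, Nat.reduceEqDiff,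
    not_false_eq_true] at h2 h3
  have hc := card_alt 4 (by norm_num)
  have := isNse_of_sum (G := alternatingGroup (Fin 4)) [1, 2, 3] (by decide) (by
    simp only [List.map, List.sum_cons, List.sum_nil, so_one, Nat.factorial] at hc ⊢; omega)
  simp only [List.map, so_one] at this
  rwa [show so (alternatingGroup (Fin 4)) 2 = 3 by omega,
    show so (alternatingGroup (Fin 4)) 3 = 8 by omega] at this

theorem nse5 : IsNse (alternatingGroup (Fin 5)) [1, 15, 20, 24] := by
  have h2 := sum_alt 5 2 (by norm_num)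
  have h3 := sum_alt 5 3 (by norm_num)
  have h5 := sum_alt 5 5 (by norm_num)
  rw [show (Finset.univ.filter fun g : Perm (Fin 5) => g ^ 2 = 1 ∧ Perm.sign g = 1).card = 16 by
    decide +kernel, show Nat.divisors 2 = {1, 2} by decide] at h2
  rw [show (Finset.univ.filter fun g : Perm (Fin 5) => g ^ 3 = 1 ∧ Perm.sign g = 1).card = 21 by
    decide +kernel, show Nat.divisors 3 = {1, 3} by decide] at h3
  rw [show (Finset.univ.filter fun g : Perm (Fin 5) => g ^ 5 = 1 ∧ Perm.sign g = 1).card = 25 by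
    decide +kernel, show Nat.divisors 5 = {1, 5} by decide] at h5
  simp only [Finset.mem_singleton, Finset.sum_insert, Finset.sum_singleton, so_one, Nat.reduceEqDiff,
    not_false_eq_true] at h2 h3 h5
  have hc := card_alt 5 (by norm_num)
  have := isNse_of_sum (G := alternatingGroup (Fin 5)) [1, 2, 3, 5] (by decide) (by
    simp only [List.map, List.sum_cons, List.sum_nil, so_one, Nat.factorial] at hc ⊢; omega)
  simp only [List.map, so_one] at this
  rwa [show so (alternatingGroup (Fin 5)) 2 = 15 by omega,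
    show so (alternatingGroup (Fin 5)) 3 = 20 by omega,
    show so (alternatingGroup (Fin 5)) 5 = 24 by omega] at this

theorem nse6 : IsNse (alternatingGroup (Fin 6)) [1, 45, 80, 90, 144] := by
  have h2 := sum_alt 6 2 (by norm_num)
  have h3 := sum_alt 6 3 (by norm_num)
  have h4 := sum_alt 6 4 (by norm_num)
  have h5 := sum_alt 6 5 (by norm_num)
  rw [show (Finset.univ.filter fun g : Perm (Fin 6) => g ^ 2 = 1 ∧ Perm.sign g = 1).card = 46 by
    decide +kernel, show Nat.divisors 2 = {1, 2} by decide] at h2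
  rw [show (Finset.univ.filter fun g : Perm (Fin 6) => g ^ 3 = 1 ∧ Perm.sign g = 1).card = 81 by
    decide +kernel, show Nat.divisors 3 = {1, 3} by decide] at h3
  rw [show (Finset.univ.filter fun g : Perm (Fin 6) => g ^ 4 = 1 ∧ Perm.sign g = 1).card = 136 by
    decide +kernel, show Nat.divisors 4 = {1, 2, 4} by decide] at h4
  rw [show (Finset.univ.filter fun g : Perm (Fin 6) => g ^ 5 = 1 ∧ Perm.sign g = 1).card = 145 by
    decide +kernel, show Nat.divisors 5 = {1, 5} by decide] at h5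
  simp only [Finset.mem_singleton, Finset.mem_insert, Finset.sum_insert, Finset.sum_singleton,
    so_one, Nat.reduceEqDiff, not_false_eq_true, or_self] at h2 h3 h4 h5
  have hc := card_alt 6 (by norm_num)
  have := isNse_of_sum (G := alternatingGroup (Fin 6)) [1, 2, 3, 4, 5] (by decide) (by
    simp only [List.map, List.sum_cons, List.sum_nil, so_one, Nat.factorial] at hc ⊢; omega)
  simp only [List.map, so_one] at this
  rwa [show so (alternatingGroup (Fin 6)) 2 = 45 by omega,
    show so (alternatingGroup (Fin 6)) 3 = 80 by omega,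
    show so (alternatingGroup (Fin 6)) 4 = 90 by omega,
    show so (alternatingGroup (Fin 6)) 5 = 144 by omega] at this

end H36.Nse
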